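import Mathlib

/-!
# Lifting algebra structures with bijective sandwich map

* `exists_assoc_of_sq_zero` : a multiplication which is associative modulo a square zero ideal and has
  a separability element modulo it can be corrected to an associative one (Teichmüller's identity).
* `AzScheme R m` : the affine scheme of structure constants of unital associative algebras of rank
  `m + 1` with invertible sandwich map; it is smooth over `R`.
-/

set_option autoImplicit false

universe u v w

namespace Groth.AzLift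

section SquareZero

variable {C : Type u} [CommRing C] (I : Ideal C)
  {V : Type v} [AddCommGroup V] [Module C V]

theorem lin_mem {W : Type w} [AddCommGroup W] [Module C W] (g : V →ₗ[C] W) {v : V}
    (hv : v ∈ I • (⊤ : Submodule C V)) : g v ∈ I • (⊤ : Submodule C W) := by
  refine Submodule.smul_induction_on hv (fun i hi a _ => ?_) (fun a b ha hb => ?_)
  · rw [map_smul]; exact Submodule.smul_mem_smul hi trivial
  · rw [map_add]; exact add_mem ha hb

theorem kill (hI : I ^ 2 = ⊥) {W : Type w} [AddCommGroup W] [Module C W] (g : V →ₗ[C] W)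
    (hg : ∀ v, g v ∈ I • (⊤ : Submodule C W)) {v : V} (hv : v ∈ I • (⊤ : Submodule C V)) :
    g v = 0 := by
  refine Submodule.smul_induction_on hv (fun i hi a _ => ?_) (fun a b ha hb => by
    rw [map_add, ha, hb, add_zero])
  have h : i • g a ∈ I • (I • (⊤ : Submodule C W)) := Submodule.smul_mem_smul hi (hg a)
  rw [← Submodule.smul_assoc, smul_eq_mul, ← pow_two, hI, Submodule.bot_smul] at h
  rw [map_smul]
  exact h

variable (m : V →ₗ[C] V →ₗ[C] V)

/-- The associator in its first argument. -/
def assoc₁ (b c : V) : V →ₗ[C] V := m.flip c ∘ₗ m.flip b - m.flip (m b c)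
/-- The associator in its second argument. -/
def assoc₂ (a c : V) : V →ₗ[C] V := m.flip c ∘ₗ m a - m a ∘ₗ m.flip c
/-- The associator in its third argument. -/
def assoc₃ (a b : V) : V →ₗ[C] V := m (m a b) - m a ∘ₗ m b

theorem assoc₁_apply (a b c : V) : assoc₁ m b c a = m (m a b) c - m a (m b c) := by
  simp [assoc₁]

theorem assoc₂_apply (a b c : V) : assoc₂ m a c b = m (m a b) c - m a (m b c) := by
  simp [assoc₂]

theorem assoc₃_apply (a b c : V) : assoc₃ m a b c = m (m a b) c - m a (m b c) := by
  simp [assoc₃]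

/-- **Teichmüller's correction.** -/
theorem exists_assoc_of_sq_zero (hI : I ^ 2 = ⊥) (one : V) (h1l : ∀ b, m one b = b)
    (h1r : ∀ a, m a one = a)
    (hω : ∀ a b c, m (m a b) c - m a (m b c) ∈ I • (⊤ : Submodule C V))
    {J : Type w} [Fintype J] (x y : J → V) (hxy : ∑ j, m (x j) (y j) - one ∈ I • (⊤ : Submodule C V))
    (hcomm : ∀ f : V →ₗ[C] V →ₗ[C] V, (∀ a b, f a b ∈ I • (⊤ : Submodule C V)) →
      ∀ a, ∑ j, f (m a (x j)) (y j) = ∑ j, f (x j) (m (y j) a)) :
    ∃ m' : V →ₗ[C] V →ₗ[C] V, (∀ a b, m' a b - m a b ∈ I • (⊤ : Submodule C V)) ∧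
      (∀ a b c, m' (m' a b) c = m' a (m' b c)) ∧ (∀ b, m' one b = b) ∧ ∀ a, m' a one = a := by
  set ω : V → V → V → V := fun a b c => m (m a b) c - m a (m b c) with hω_def
  have hω1 : ∀ {a} b c, a ∈ I • (⊤ : Submodule C V) → ω a b c = 0 := by
    intro a b c ha
    rw [hω_def]; dsimp only
    rw [← assoc₁_apply]
    exact kill I hI _ (fun v => by rw [assoc₁_apply]; exact hω v b c) ha
  have hω3 : ∀ a b {c}, c ∈ I • (⊤ : Submodule C V) → ω a b c = 0 := by
    intro a b c hc
    rw [hω_def]; dsimp only
    rw [← assoc₃_apply]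
    exact kill I hI _ (fun v => by rw [assoc₃_apply]; exact hω a b v) hc
  have hω2 : ∀ a {b} c, b ∈ I • (⊤ : Submodule C V) → ω a b c = 0 := by
    intro a b c hb
    rw [hω_def]; dsimp only
    rw [← assoc₂_apply]
    exact kill I hI _ (fun v => by rw [assoc₂_apply]; exact hω a v c) hb
  let h : V → V → V := fun a b => ∑ j, m (x j) (ω (y j) a b)
  have hK : ∀ a b, h a b ∈ I • (⊤ : Submodule C V) := fun a b =>
    Submodule.sum_mem _ fun j _ => lin_mem I (m (x j)) (hω _ _ _)
  let h₁ : V → (V →ₗ[C] V) := fun b => ∑ j, m (x j) ∘ₗ assoc₂ m (y j) b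
  let h₂ : V → (V →ₗ[C] V) := fun a => ∑ j, m (x j) ∘ₗ assoc₃ m (y j) a
  have e₁ : ∀ a b, h₁ b a = h a b := fun a b => by
    simp only [h₁, h, LinearMap.sum_apply, LinearMap.comp_apply, assoc₂_apply]
    rfl
  have e₂ : ∀ a b, h₂ a b = h a b := fun a b => by
    simp only [h₂, h, LinearMap.sum_apply, LinearMap.comp_apply, assoc₃_apply]
    rfl
  let H : V →ₗ[C] V →ₗ[C] V := LinearMap.mk₂ C h
    (fun a a' b => by rw [← e₁, ← e₁, ← e₁, map_add])
    (fun r a b => by rw [← e₁, ← e₁, map_smul])
    (fun a b b' => by rw [← e₂, ← e₂, ← e₂, map_add])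
    (fun r a b => by rw [← e₂, ← e₂, map_smul])
  have hH : ∀ a b, H a b = h a b := fun a b => rfl
  have hHK : ∀ a b, H a b ∈ I • (⊤ : Submodule C V) := hK
  -- `(Σ x y) w = w` on `I`-valued elements
  have hone : ∀ w ∈ I • (⊤ : Submodule C V), ∑ j, m (x j) (m (y j) w) = w := by
    intro w hw
    have h0 : ∀ v, (m (∑ j, m (x j) (y j) - one)) v ∈ I • (⊤ : Submodule C V) := fun v => by
      rw [← LinearMap.flip_apply]; exact lin_mem I (m.flip v) hxy
    have h1 := kill I hI _ h0 hw
    rw [map_sub, LinearMap.sub_apply, h1l, map_sum, LinearMap.sum_apply, sub_eq_zero] at h1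
    refine Eq.trans (Finset.sum_congr rfl fun j _ => ?_) h1
    exact (sub_eq_zero.1 (hω3 (x j) (y j) hw)).symm
  refine ⟨m + H, fun a b => ?_, fun a b c => ?_, fun b => ?_, fun a => ?_⟩
  · simpa using hHK a b
  · -- first order expansion
    have z1 : H (H a b) c = 0 := by
      rw [← LinearMap.flip_apply H]
      exact kill I hI _ (fun v => by rw [LinearMap.flip_apply]; exact hHK _ _) (hHK a b)
    have z2 : H a (H b c) = 0 := kill I hI _ (fun v => hHK _ _) (hHK b c)
    -- the comm step
    have hca : ∑ j, m (x j) (ω (m (y j) a) b c) = m a (h b c) := by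
      have := hcomm (m.compl₂ (assoc₁ m b c)) (fun u v => by
        rw [LinearMap.compl₂_apply, assoc₁_apply]; exact lin_mem I (m u) (hω v b c)) a
      simp only [LinearMap.compl₂_apply, assoc₁_apply] at this
      rw [show (∑ j, m (x j) (ω (m (y j) a) b c)) = _ from this.symm, map_sum]
      exact Finset.sum_congr rfl fun j _ => sub_eq_zero.1 (hω3 a (x j) (hω (y j) b c))
    -- Teichmüller's identity
    have key : ∀ j, m (ω (y j) a b) c
        = ω (m (y j) a) b c - ω (y j) (m a b) c + ω (y j) a (m b c) - m (y j) (ω a b c) := by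
      intro j
      simp only [hω_def, map_sub, LinearMap.sub_apply]
      abel
    have hc : m (h a b) c = ∑ j, m (x j) (m (ω (y j) a b) c) := by
      simp only [h, map_sum, LinearMap.sum_apply]
      exact Finset.sum_congr rfl fun j _ => sub_eq_zero.1 (hω2 (x j) c (hω (y j) a b))
    have main : m (h a b) c = m a (h b c) - h (m a b) c + h a (m b c) - ω a b c := by
      rw [hc]
      simp only [key, map_sub, map_add, Finset.sum_sub_distrib, Finset.sum_add_distrib, hca]
      rw [hone (ω a b c) (hω a b c)]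
    rw [hH, hH] at z1 z2
    simp only [LinearMap.add_apply, map_add, hH, z1, z2]
    rw [main]
    simp only [hω_def]
    abel
  · have : h one b = 0 := Finset.sum_eq_zero fun j _ => by simp [hω_def, h1l, h1r]
    simp [hH, this, h1l]
  · have : h a one = 0 := Finset.sum_eq_zero fun j _ => by simp [hω_def, h1r]
    simp [hH, this, h1r]

end SquareZero

/-! ## Structure constants -/

section Structure

variable {S : Type u} [CommRing S] {ι : Type} [Fintype ι] [DecidableEq ι] [Zero ι]

/-- The multiplication with structure constants `c`. -/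
def mulC (c : ι → ι → ι → S) : (ι → S) →ₗ[S] (ι → S) →ₗ[S] (ι → S) :=
  LinearMap.mk₂ S (fun a b t => ∑ p, ∑ q, a p * b q * c p q t)
    (fun a a' b => by ext t; simp [add_mul, Finset.sum_add_distrib])
    (fun r a b => by ext t; simp [Finset.mul_sum, mul_assoc])
    (fun a b b' => by ext t; simp [mul_add, add_mul, Finset.sum_add_distrib])
    (fun r a b => by ext t; simp [Finset.mul_sum, mul_assoc, mul_left_comm])

theorem mulC_apply (c : ι → ι → ι → S) (a b : ι → S) (t : ι) :
    mulC c a b t = ∑ p, ∑ q, a p * b q * c p q t := rfl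

local notation "e" => fun i => (Pi.single i 1 : ι → S)

theorem mulC_single (c : ι → ι → ι → S) (p q : ι) :
    mulC c (Pi.single p 1) (Pi.single q 1) = c p q := by
  ext t; simp [mulC_apply, Pi.single_apply]

theorem mulC_single_right (c : ι → ι → ι → S) (a : ι → S) (q t : ι) :
    mulC c a (Pi.single q 1) t = ∑ p, a p * c p q t := by
  simp [mulC_apply, Pi.single_apply]

theorem mulC_single_left (c : ι → ι → ι → S) (b : ι → S) (p t : ι) :
    mulC c (Pi.single p 1) b t = ∑ q, b q * c p q t := by
  simp [mulC_apply, Pi.single_apply]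

/-- The matrix of the sandwich map. -/
def sandwich (c : ι → ι → ι → S) : Matrix (ι × ι) (ι × ι) S :=
  fun sr pq => ∑ t, c pq.1 sr.2 t * c t pq.2 sr.1

theorem sandwich_eq (c : ι → ι → ι → S) (s r p q : ι) :
    sandwich c (s, r) (p, q) = mulC c (mulC c (Pi.single p 1) (Pi.single r 1)) (Pi.single q 1) s := by
  rw [mulC_single, mulC_single_right]; rfl

/-- Associativity and unit of structure constants. -/
structure IsSC (c : ι → ι → ι → S) : Prop where
  assoc : ∀ p q r s, (∑ t, c p q t * c t r s) = ∑ t, c q r t * c p t s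
  unit_left : ∀ q t, c 0 q t = if q = t then 1 else 0
  unit_right : ∀ p t, c p 0 t = if p = t then 1 else 0

theorem mulC_one_left {c : ι → ι → ι → S} (h : ∀ q t, c 0 q t = if q = t then 1 else 0)
    (b : ι → S) : mulC c (Pi.single 0 1) b = b := by
  ext t; simp [mulC_single_left, h]

theorem mulC_one_right {c : ι → ι → ι → S} (h : ∀ p t, c p 0 t = if p = t then 1 else 0)
    (a : ι → S) : mulC c a (Pi.single 0 1) = a := by
  ext t; simp [mulC_single_right, h]

/-- A trilinear condition is checked on basis vectors. -/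
theorem assoc_mem (c : ι → ι → ι → S) (K : Submodule S (ι → S))
    (h : ∀ p q r, mulC c (mulC c (Pi.single p 1) (Pi.single q 1)) (Pi.single r 1) -
      mulC c (Pi.single p 1) (mulC c (Pi.single q 1) (Pi.single r 1)) ∈ K) (a b d : ι → S) :
    mulC c (mulC c a b) d - mulC c a (mulC c b d) ∈ K := by
  have hspan : Submodule.span S (Set.range (e)) = ⊤ := by
    rw [← (Pi.basisFun S ι).span_eq]; congr; ext i; simp
  have step : ∀ g : (ι → S) →ₗ[S] (ι → S), (∀ i, g (Pi.single i 1) ∈ K) → ∀ v, g v ∈ K := by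
    intro g hg v
    have : Submodule.span S (Set.range (e)) ≤ K.comap g :=
      Submodule.span_le.2 (by rintro _ ⟨i, rfl⟩; exact hg i)
    exact this (hspan ▸ trivial)
  rw [← assoc₃_apply]
  refine step _ (fun r => ?_) d
  rw [assoc₃_apply, ← assoc₂_apply]
  refine step _ (fun q => ?_) b
  rw [assoc₂_apply, ← assoc₁_apply]
  refine step _ (fun p => ?_) a
  rw [assoc₁_apply]
  exact h p q r

theorem IsSC.mulC_assoc {c : ι → ι → ι → S} (hc : IsSC c) (a b d : ι → S) :
    mulC c (mulC c a b) d = mulC c a (mulC c b d) := by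
  have := assoc_mem c ⊥ (fun p q r => ?_) a b d
  · simpa [sub_eq_zero] using this
  rw [Submodule.mem_bot, sub_eq_zero]
  ext s
  simp [mulC_single, mulC_single_right, mulC_single_left, hc.assoc]

theorem IsSC.of_mulC {c : ι → ι → ι → S}
    (h : ∀ a b d, mulC c (mulC c a b) d = mulC c a (mulC c b d))
    (hl : ∀ q t, c 0 q t = if q = t then 1 else 0)
    (hr : ∀ p t, c p 0 t = if p = t then 1 else 0) : IsSC c := by
  refine ⟨fun p q r s => ?_, hl, hr⟩
  have := congrFun (h (Pi.single p 1) (Pi.single q 1) (Pi.single r 1)) s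
  simpa [mulC_single, mulC_single_right, mulC_single_left] using this

/-- `x_j ⊗ y_j ↦ (z ↦ Σ x_j z y_j)`. -/
def psi (c : ι → ι → ι → S) (X : ι × ι → S) : (ι → S) →ₗ[S] (ι → S) :=
  ∑ pq, X pq • ((mulC c).flip (Pi.single pq.2 1) ∘ₗ mulC c (Pi.single pq.1 1))

theorem psi_single (c : ι → ι → ι → S) (X : ι × ι → S) (r s : ι) :
    psi c X (Pi.single r 1) s = ∑ pq, sandwich c (s, r) pq * X pq := by
  simp only [psi, LinearMap.sum_apply, LinearMap.smul_apply, LinearMap.comp_apply,
    LinearMap.flip_apply, Finset.sum_apply, Pi.smul_apply, smul_eq_mul]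
  exact Finset.sum_congr rfl fun x _ => by rw [mul_comm, ← sandwich_eq c s r x.1 x.2]

/-- The separability element commutes with everything. -/
theorem IsSC.comm {c : ι → ι → ι → S} (hc : IsSC c) {D : Matrix (ι × ι) (ι × ι) S}
    (hD : sandwich c * D = 1) (u p' q : ι) :
    ∑ p, D (p, q) (0, 0) * c u p p' = ∑ q0, D (p', q0) (0, 0) * c q0 u q := by
  have hDl : D * sandwich c = 1 := mul_eq_one_comm.1 hD
  let E : ι × ι → S := fun pq => D pq (0, 0)
  have hE : ∀ z : ι → S, psi c E z = z 0 • Pi.single 0 1 := by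
    intro z
    refine LinearMap.congr_fun (g := (LinearMap.proj (R := S) (φ := fun _ : ι => S) 0).smulRight (Pi.single (M := fun _ : ι => S) (0 : ι) (1 : S)))
      (LinearMap.pi_ext' fun r => LinearMap.ext_ring ?_) z
    ext s
    have := congrFun (congrFun hD (s, r)) (0, 0)
    rw [Matrix.mul_apply] at this
    simp only [LinearMap.coe_comp, LinearMap.coe_single, Function.comp_apply, psi_single, E, this]
    by_cases hs : s = 0 <;> by_cases hr : r = 0 <;>
      simp [Matrix.one_apply, hs, hr, eq_comm, Pi.single_apply]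
  let Lm : ι × ι → S := fun pq => ∑ p, D (p, pq.2) (0, 0) * c u p pq.1
  let Rm : ι × ι → S := fun pq => ∑ q0, D (pq.1, q0) (0, 0) * c q0 u pq.2
  have hzero : ∀ z, psi c Lm z = psi c Rm z := by
    intro z
    have hL : psi c Lm z = mulC c (Pi.single u 1) (psi c E z) := by
      have hp : ∀ p, mulC c (Pi.single u 1) (Pi.single p 1) = ∑ p', c u p p' • Pi.single p' 1 :=
        fun p => by rw [mulC_single]; exact (pi_eq_sum_univ' (c u p))
      simp only [psi, LinearMap.sum_apply, map_sum, LinearMap.smul_apply, map_smul,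
        LinearMap.comp_apply, LinearMap.flip_apply, ← hc.mulC_assoc, hp, Fintype.sum_prod_type,
        Lm, E, Finset.sum_smul, Finset.smul_sum, mul_smul]
      rw [Finset.sum_comm]
      conv_rhs => rw [Finset.sum_comm]
      exact Finset.sum_congr rfl fun q _ => Finset.sum_comm
    have hR : psi c Rm z = mulC c (psi c E z) (Pi.single u 1) := by
      have hq : ∀ q0, mulC c (Pi.single q0 1) (Pi.single u 1) = ∑ q', c q0 u q' • Pi.single q' 1 :=
        fun q0 => by rw [mulC_single]; exact (pi_eq_sum_univ' (c q0 u))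
      simp only [psi, LinearMap.sum_apply, map_sum, LinearMap.smul_apply, map_smul,
        LinearMap.comp_apply, LinearMap.flip_apply, hc.mulC_assoc, hq, Fintype.sum_prod_type,
        Rm, E, Finset.sum_smul, Finset.smul_sum, mul_smul]
      exact Finset.sum_congr rfl fun p _ => Finset.sum_comm
    rw [hL, hR, hE]
    simp [mulC_one_left hc.unit_left, mulC_one_right hc.unit_right]
  have hmul : (sandwich c).mulVec Lm = (sandwich c).mulVec Rm := by
    ext ⟨s, r⟩
    have := congrFun (hzero (Pi.single r 1)) s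
    rwa [psi_single, psi_single] at this
  have := congrArg D.mulVec hmul
  rw [Matrix.mulVec_mulVec, Matrix.mulVec_mulVec, hDl, Matrix.one_mulVec, Matrix.one_mulVec] at this
  exact congrFun this (p', q)

theorem sum_sep {c : ι → ι → ι → S} (hc : IsSC c) {D : Matrix (ι × ι) (ι × ι) S}
    (hD : sandwich c * D = 1) (s : ι) :
    ∑ pq : ι × ι, D pq (0, 0) * c pq.1 pq.2 s = if s = 0 then 1 else 0 := by
  have := congrFun (congrFun hD (s, 0)) (0, 0)
  rw [Matrix.mul_apply] at this
  simp only [sandwich, hc.unit_right, ite_mul, one_mul, zero_mul, Finset.sum_ite_eq,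
    Finset.mem_univ, if_true] at this
  simp only [mul_comm (D _ _), this, Matrix.one_apply, Prod.mk.injEq, and_true]

/-- The lifting step. -/
theorem exists_lift {I : Ideal S} (hI : I ^ 2 = ⊥) (c₀ : ι → ι → ι → S ⧸ I)
    (D₀ : Matrix (ι × ι) (ι × ι) (S ⧸ I)) (hc₀ : IsSC c₀) (hD₀ : sandwich c₀ * D₀ = 1) :
    ∃ (c : ι → ι → ι → S) (D : Matrix (ι × ι) (ι × ι) S), IsSC c ∧ sandwich c * D = 1 ∧
      (∀ p q t, Ideal.Quotient.mk I (c p q t) = c₀ p q t) ∧
      ∀ a b, Ideal.Quotient.mk I (D a b) = D₀ a b := by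
  let π := Ideal.Quotient.mk I
  choose l hl using Ideal.Quotient.mk_surjective (I := I)
  let c : ι → ι → ι → S := fun p q t =>
    if p = 0 then (if q = t then 1 else 0) else if q = 0 then (if p = t then 1 else 0) else l (c₀ p q t)
  have hπc : ∀ p q t, π (c p q t) = c₀ p q t := by
    intro p q t
    simp only [c]
    split_ifs with h1 h2 h3 h4 <;> subst_vars <;>
      simp_all [π, hc₀.unit_left, hc₀.unit_right]
  let m := mulC c
  have hmemK : ∀ v : ι → S, (∀ t, π (v t) = 0) → v ∈ I • (⊤ : Submodule S (ι → S)) := by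
    intro v hv
    rw [pi_eq_sum_univ' v]
    exact Submodule.sum_mem _ fun t _ =>
      Submodule.smul_mem_smul (Ideal.Quotient.eq_zero_iff_mem.1 (hv t)) trivial
  have hKmem : ∀ v ∈ I • (⊤ : Submodule S (ι → S)), ∀ t, π (v t) = 0 := by
    intro v hv t
    refine Submodule.smul_induction_on hv (fun i hi a _ => ?_) (fun a b ha hb => by simp [ha, hb])
    simp [π, Ideal.Quotient.eq_zero_iff_mem.2 (I.mul_mem_right (a t) hi)]
  have hω : ∀ a b d, m (m a b) d - m a (m b d) ∈ I • (⊤ : Submodule S (ι → S)) :=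
    assoc_mem c _ fun p q r => hmemK _ fun s => by
      simp [mulC_single, mulC_single_right, mulC_single_left, map_sum, hπc, hc₀.assoc]
  have h1l : ∀ b, m (Pi.single 0 1) b = b := mulC_one_left (fun q t => by simp [c])
  have h1r : ∀ a, m a (Pi.single 0 1) = a := mulC_one_right (fun p t => by
    simp only [c]; split_ifs <;> simp_all)
  let E : ι × ι → S := fun pq => l (D₀ pq (0, 0))
  have hπE : ∀ pq, π (E pq) = D₀ pq (0, 0) := fun pq => hl _
  have hxy : ∑ pq : ι × ι, m (E pq • Pi.single pq.1 1) (Pi.single pq.2 1) - Pi.single 0 1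
      ∈ I • (⊤ : Submodule S (ι → S)) := hmemK _ fun s => by
    simp only [map_smul, LinearMap.smul_apply, m, mulC_single, Pi.sub_apply, Finset.sum_apply,
      Pi.smul_apply, smul_eq_mul, map_sub, map_sum, map_mul, hπE, hπc, sum_sep hc₀ hD₀]
    by_cases hs : s = 0 <;> simp [hs, Pi.single_apply]
  have hcomm : ∀ f : (ι → S) →ₗ[S] (ι → S) →ₗ[S] (ι → S),
      (∀ a b, f a b ∈ I • (⊤ : Submodule S (ι → S))) → ∀ a,
      ∑ pq : ι × ι, f (m a (E pq • Pi.single pq.1 1)) (Pi.single pq.2 1) =
      ∑ pq : ι × ι, f (E pq • Pi.single pq.1 1) (m (Pi.single pq.2 1) a) := by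
    intro f hf a
    have : (∑ pq : ι × ι, (f.flip (Pi.single pq.2 1)) ∘ₗ (m.flip (E pq • Pi.single pq.1 1))) =
        ∑ pq : ι × ι, (f (E pq • Pi.single pq.1 1)) ∘ₗ (m (Pi.single pq.2 1)) := by
      refine LinearMap.pi_ext' fun u => LinearMap.ext_ring ?_
      simp only [LinearMap.coe_comp, LinearMap.coe_single, Function.comp_apply, LinearMap.sum_apply,
        LinearMap.flip_apply, map_smul, LinearMap.smul_apply, m, mulC_single]
      rw [← sub_eq_zero]
      have hL : ∀ p q, f (c u p) (Pi.single q 1) =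
          ∑ p', c u p p' • f (Pi.single p' 1) (Pi.single q 1) := fun p q => by
        conv_lhs => rw [pi_eq_sum_univ' (c u p)]
        simp
      have hR : ∀ p q, f (Pi.single p 1) (c q u) =
          ∑ q', c q u q' • f (Pi.single p 1) (Pi.single q' 1) := fun p q => by
        conv_lhs => rw [pi_eq_sum_univ' (c q u)]
        simp
      have : (∑ pq : ι × ι, E pq • f (c u pq.1) (Pi.single pq.2 1)) -
          ∑ pq : ι × ι, E pq • f (Pi.single pq.1 1) (c pq.2 u) =
          ∑ p', ∑ q, ((∑ p, E (p, q) * c u p p') - ∑ q0, E (p', q0) * c q0 u q) •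
            f (Pi.single p' 1) (Pi.single q 1) := by
        simp only [hL, hR, Fintype.sum_prod_type, sub_smul, Finset.sum_sub_distrib, Finset.sum_smul,
          Finset.smul_sum, mul_smul]
        congr 1
        · rw [Finset.sum_comm]
          conv_rhs => rw [Finset.sum_comm]
          exact Finset.sum_congr rfl fun q _ => Finset.sum_comm
        · exact Finset.sum_congr rfl fun p _ => Finset.sum_comm
      rw [this]
      refine Finset.sum_eq_zero fun p' _ => Finset.sum_eq_zero fun q _ => ?_
      have h := Submodule.smul_mem_smul (r := (∑ p, E (p, q) * c u p p') - ∑ q0, E (p', q0) * c q0 u q)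
        (Ideal.Quotient.eq_zero_iff_mem.1 (by
          change π _ = 0
          simp only [map_sub, map_sum, map_mul, hπE, hπc]
          rw [sub_eq_zero]; exact hc₀.comm hD₀ u p' q)) (hf (Pi.single p' 1) (Pi.single q 1))
      rw [← Submodule.smul_assoc, smul_eq_mul, ← pow_two, hI, Submodule.bot_smul] at h
      exact h
    simpa using LinearMap.congr_fun this a
  obtain ⟨m', hm', hassoc, hl', hr'⟩ :=
    exists_assoc_of_sq_zero I m hI _ h1l h1r hω _ _ hxy hcomm
  let c' : ι → ι → ι → S := fun p q => m' (Pi.single p 1) (Pi.single q 1)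
  have hm'c : m' = mulC c' := by
    refine LinearMap.pi_ext' fun p => LinearMap.ext_ring (LinearMap.pi_ext' fun q => LinearMap.ext_ring ?_)
    simp [c', mulC_single]
  have hπc' : ∀ p q t, π (c' p q t) = c₀ p q t := fun p q t => by
    have := hKmem _ (hm' (Pi.single p 1) (Pi.single q 1)) t
    rw [Pi.sub_apply, map_sub, sub_eq_zero] at this
    simpa [c', m, mulC_single, hπc] using this
  have hc' : IsSC c' := IsSC.of_mulC (hm'c ▸ hassoc)
    (fun q t => by simp [c', hl', Pi.single_apply, eq_comm])
    (fun p t => by simp [c', hr', Pi.single_apply, eq_comm])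
  let D₁ : Matrix (ι × ι) (ι × ι) S := D₀.map l
  let N := sandwich c' * D₁ - 1
  have hπN : N.map π = 0 := by
    have e1 : (sandwich c').map π = sandwich c₀ := by
      ext a b; simp [sandwich, hπc']
    have e2 : D₁.map π = D₀ := by ext a b; simp [D₁, π, hl]
    rw [Matrix.map_sub _ (map_sub π), Matrix.map_mul, e1, e2, hD₀, Matrix.map_one _ (map_zero _) (map_one _),
      sub_self]
  have hN : ∀ a b, N a b ∈ I := fun a b =>
    Ideal.Quotient.eq_zero_iff_mem.1 (congrFun (congrFun hπN a) b)
  have hNN : N * N = 0 := by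
    ext a b
    simp only [Matrix.mul_apply, Matrix.zero_apply]
    refine Finset.sum_eq_zero fun k _ => ?_
    have := Ideal.mul_mem_mul (hN a k) (hN k b)
    rwa [← pow_two, hI] at this
  refine ⟨c', D₁ * (1 - N), hc', ?_, hπc', fun a b => ?_⟩
  · rw [← mul_assoc, show sandwich c' * D₁ = 1 + N by simp [N]]
    simp [mul_sub, add_mul, hNN]
  · have e2 : D₁.map π = D₀ := by ext a b; simp [D₁, π, hl]
    have : (D₁ * (1 - N)).map π = D₀ := by
      rw [Matrix.map_mul, Matrix.map_sub _ (map_sub π), hπN, Matrix.map_one _ (map_zero _) (map_one _),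
        sub_zero, mul_one, e2]
    exact congrFun (congrFun this a) b

end Structure

end Groth.AzLift
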