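import Groth.Agent.AzLift.Core

/-!
# The smooth scheme of structure constants of Azumaya algebras, and the algebra of structure constants
-/

set_option autoImplicit false

universe u v

open MvPolynomial

namespace Groth.AzLift

variable (R : Type u) [CommRing R] (ι : Type) [Fintype ι] [DecidableEq ι] [Zero ι]

/-- Variables: structure constants and an inverse of the sandwich matrix. -/
abbrev SVar : Type := (ι × ι × ι) ⊕ ((ι × ι) × (ι × ι))

/-- The polynomial ring of the variables. -/
abbrev SPoly : Type u := MvPolynomial (SVar ι) R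

/-- The generic structure constants. -/
noncomputable def genC (p q t : ι) : SPoly R ι := X (Sum.inl (p, q, t))

/-- The generic inverse sandwich matrix. -/
noncomputable def genD : Matrix (ι × ι) (ι × ι) (SPoly R ι) := fun a b => X (Sum.inr (a, b))

/-- The equations: associativity, unit, invertibility of the sandwich matrix. -/
noncomputable def rel : (ι × ι × ι × ι) ⊕ (ι × ι) ⊕ (ι × ι) ⊕ ((ι × ι) × (ι × ι)) → SPoly R ι
  | .inl (p, q, r, s) =>
      (∑ t, genC R ι p q t * genC R ι t r s) - ∑ t, genC R ι q r t * genC R ι p t s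
  | .inr (.inl (q, t)) => genC R ι 0 q t - if q = t then 1 else 0
  | .inr (.inr (.inl (p, t))) => genC R ι p 0 t - if p = t then 1 else 0
  | .inr (.inr (.inr (a, b))) =>
      (∑ k, sandwich (genC R ι) a k * genD R ι k b) - if a = b then 1 else 0

/-- The ideal of the scheme of structure constants. -/
noncomputable def scIdeal : Ideal (SPoly R ι) := Ideal.span (Set.range (rel R ι))

/-- The coordinate ring of the scheme of structure constants of Azumaya algebras. -/
abbrev AzRing : Type u := SPoly R ι ⧸ scIdeal R ι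

variable {R ι} {S : Type v} [CommRing S] [Algebra R S]

/-- The structure constants at a point. -/
noncomputable def ptC (f : AzRing R ι →ₐ[R] S) (p q t : ι) : S :=
  f (Ideal.Quotient.mk _ (genC R ι p q t))

/-- The inverse sandwich matrix at a point. -/
noncomputable def ptD (f : AzRing R ι →ₐ[R] S) : Matrix (ι × ι) (ι × ι) S :=
  fun a b => f (Ideal.Quotient.mk _ (genD R ι a b))

theorem sandwich_map {S' T : Type*} [CommRing S'] [CommRing T] {F : Type*} [FunLike F S' T]
    [RingHomClass F S' T] (f : F) (c : ι → ι → ι → S') (a b : ι × ι) :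
    f (sandwich c a b) = sandwich (fun p q t => f (c p q t)) a b := by
  simp [sandwich, map_sum]

theorem isSC_pt (f : AzRing R ι →ₐ[R] S) : IsSC (ptC f) ∧ sandwich (ptC f) * ptD f = 1 := by
  have hrel : ∀ i, (f.comp (Ideal.Quotient.mkₐ R _)) (rel R ι i) = 0 := fun i => by
    rw [AlgHom.comp_apply, Ideal.Quotient.mkₐ_eq_mk,
      Ideal.Quotient.eq_zero_iff_mem.2 (show rel R ι i ∈ scIdeal R ι from
        Ideal.subset_span (Set.mem_range_self i)), map_zero]
  refine ⟨⟨fun p q r s => ?_, fun q t => ?_, fun p t => ?_⟩, ?_⟩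
  · simpa [rel, map_sum, sub_eq_zero, ptC] using hrel (.inl (p, q, r, s))
  · simpa [rel, sub_eq_zero, ptC, apply_ite f] using hrel (.inr (.inl (q, t)))
  · simpa [rel, sub_eq_zero, ptC, apply_ite f] using hrel (.inr (.inr (.inl (p, t))))
  · ext a b
    simpa [rel, map_sum, sub_eq_zero, ptC, ptD, apply_ite f, Matrix.mul_apply, sandwich_map,
      Matrix.one_apply, sandwich] using hrel (.inr (.inr (.inr (a, b))))

/-- A point from structure constants. -/
noncomputable def mkPt (c : ι → ι → ι → S) (D : Matrix (ι × ι) (ι × ι) S) (hc : IsSC c)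
    (hD : sandwich c * D = 1) : AzRing R ι →ₐ[R] S :=
  Ideal.Quotient.liftₐ (scIdeal R ι)
    (aeval (Sum.elim (fun x => c x.1 x.2.1 x.2.2) fun x => D x.1 x.2)) <| by
    intro x hx
    refine (Ideal.span_le (I := RingHom.ker _)).2 ?_ hx
    rintro _ ⟨i, rfl⟩
    rw [SetLike.mem_coe, RingHom.mem_ker]
    match i with
    | .inl (p, q, r, s) => simp [rel, genC, map_sum, hc.assoc]
    | .inr (.inl (q, t)) => simp only [rel, genC, map_sub, aeval_X, Sum.elim_inl, hc.unit_left]; split_ifs <;> simp
    | .inr (.inr (.inl (p, t))) => simp only [rel, genC, map_sub, aeval_X, Sum.elim_inl, hc.unit_right]; split_ifs <;> simp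
    | .inr (.inr (.inr (a, b))) =>
      have := congrFun (congrFun hD a) b
      simp only [Matrix.mul_apply] at this
      simp only [rel, genC, genD, map_sub, map_sum, map_mul, sandwich_map, aeval_X, Sum.elim_inl,
        Sum.elim_inr, this, Matrix.one_apply]
      split_ifs <;> simp

theorem mkPt_C (c : ι → ι → ι → S) (D : Matrix (ι × ι) (ι × ι) S) (hc : IsSC c)
    (hD : sandwich c * D = 1) (p q t : ι) : ptC (mkPt (R := R) c D hc hD) p q t = c p q t := by
  simp [ptC, mkPt, genC]

theorem mkPt_D (c : ι → ι → ι → S) (D : Matrix (ι × ι) (ι × ι) S) (hc : IsSC c)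
    (hD : sandwich c * D = 1) (a b : ι × ι) : ptD (mkPt (R := R) c D hc hD) a b = D a b := by
  simp [ptD, mkPt, genD]

theorem pt_ext {f g : AzRing R ι →ₐ[R] S} (hC : ∀ p q t, ptC f p q t = ptC g p q t)
    (hD : ∀ a b, ptD f a b = ptD g a b) : f = g := by
  refine Ideal.Quotient.algHom_ext R (MvPolynomial.algHom_ext fun x => ?_)
  rcases x with ⟨p, q, t⟩ | ⟨a, b⟩
  · exact hC p q t
  · exact hD a b

variable (R ι)

instance smooth : Algebra.Smooth R (AzRing R ι) where
  formallySmooth := by
    refine Algebra.FormallySmooth.of_comp_surjective fun B _ _ I hI σ => ?_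
    obtain ⟨hc, hD⟩ := isSC_pt σ
    obtain ⟨c, D, hc', hD', hπc, hπD⟩ := exists_lift hI _ _ hc hD
    refine ⟨mkPt c D hc' hD', pt_ext (fun p q t => ?_) fun a b => ?_⟩
    · exact (congrArg (Ideal.Quotient.mk I) (mkPt_C c D hc' hD' p q t)).trans (hπc p q t)
    · exact (congrArg (Ideal.Quotient.mk I) (mkPt_D c D hc' hD' a b)).trans (hπD a b)
  finitePresentation := .quotient (Submodule.fg_span (Set.finite_range (rel R ι)))

/-! ## The algebra of structure constants -/

variable {R ι} (c : ι → ι → ι → R) (hc : IsSC c)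

/-- The algebra with structure constants `c`, realised in its left regular representation. -/
def scAlg : Subalgebra R (Module.End R (ι → R)) :=
  (LinearMap.range (mulC c)).toSubalgebra
    ⟨Pi.single 0 1, LinearMap.ext fun b => mulC_one_left hc.unit_left b⟩
    (by
      rintro _ _ ⟨a, rfl⟩ ⟨b, rfl⟩
      exact ⟨mulC c a b, LinearMap.ext fun d => hc.mulC_assoc a b d⟩)

theorem mem_scAlg (f : Module.End R (ι → R)) : f ∈ scAlg c hc ↔ ∃ a, mulC c a = f := Iff.rfl

/-- The coordinates. -/
def scEquiv : (ι → R) ≃ₗ[R] scAlg c hc where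
  toFun a := ⟨mulC c a, a, rfl⟩
  invFun f := f.1 (Pi.single 0 1)
  map_add' a b := Subtype.ext (map_add _ a b)
  map_smul' r a := Subtype.ext (map_smul _ r a)
  left_inv a := mulC_one_right hc.unit_right a
  right_inv := by
    rintro ⟨_, a, rfl⟩
    exact Subtype.ext (congrArg (mulC c) (mulC_one_right hc.unit_right a))

theorem scEquiv_mul (a b : ι → R) : scEquiv c hc a * scEquiv c hc b = scEquiv c hc (mulC c a b) :=
  Subtype.ext (LinearMap.ext fun d => (hc.mulC_assoc a b d).symm)

theorem scEquiv_one : scEquiv c hc (Pi.single 0 1) = 1 :=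
  Subtype.ext (LinearMap.ext fun b => mulC_one_left hc.unit_left b)

/-- A map into an algebra from a family multiplying by the structure constants. -/
noncomputable def scHom {A₀ : Type v} [Ring A₀] [Algebra R A₀] (b : ι → A₀) (h1 : b 0 = 1)
    (hb : ∀ p q, b p * b q = ∑ t, c p q t • b t) : scAlg c hc →ₐ[R] A₀ :=
  AlgHom.ofLinearMap (Fintype.linearCombination R b ∘ₗ (scEquiv c hc).symm.toLinearMap)
    (by rw [← scEquiv_one c hc]; simp [h1, Fintype.linearCombination_apply, Pi.single_apply])
    (by
      intro x y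
      obtain ⟨a, rfl⟩ := (scEquiv c hc).surjective x
      obtain ⟨a', rfl⟩ := (scEquiv c hc).surjective y
      rw [scEquiv_mul]
      simp only [LinearMap.comp_apply, LinearEquiv.coe_coe, LinearEquiv.symm_apply_apply,
        Fintype.linearCombination_apply, mulC_apply, Finset.sum_smul, Finset.sum_mul, Finset.mul_sum,
        smul_mul_smul_comm, hb, Finset.smul_sum, smul_smul]
      rw [Finset.sum_comm]
      conv_rhs => rw [Finset.sum_comm]
      exact Finset.sum_congr rfl fun p _ => Finset.sum_comm)

theorem scHom_single {A₀ : Type v} [Ring A₀] [Algebra R A₀] (b : ι → A₀) (h1 : b 0 = 1)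
    (hb : ∀ p q, b p * b q = ∑ t, c p q t • b t) (i : ι) :
    scHom c hc b h1 hb (scEquiv c hc (Pi.single i 1)) = b i := by
  simp [scHom, Fintype.linearCombination_apply, Pi.single_apply]

end Groth.AzLift
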